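import Groth.Agent.SteinEt.Main
import Groth.Agent.FEtGal.Galois
import Groth.Agent.PiSpDesc.Basic
import Groth.Agent.SpQS.FieldImm
import Groth.Agent.Hensel.Decomp

/-!
# Connected covers and the Stein factorisation
-/

set_option autoImplicit false
set_option linter.style.haveILetI false
set_option backward.isDefEq.respectTransparency false
set_option backward.isDefEq.respectTransparency.types false

universe u

open CategoryTheory CategoryTheory.Limits AlgebraicGeometry

noncomputable section

namespace Groth.Agent.FEtEssIm

open Groth.Agent.FEtGal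

theorem geometricallyConnected_of_algClosed {X S : Scheme.{u}} (f : X ⟶ S)
    (h : ∀ (Ω : Type u) [Field Ω] [IsAlgClosed Ω] (σ : Spec (CommRingCat.of Ω) ⟶ S),
      ConnectedSpace (pullback f σ : Scheme.{u})) :
    GeometricallyConnected f := by
  refine ⟨fun K _ y Z fst snd H => ?_⟩
  let t := Spec.map (CommRingCat.ofHom (algebraMap K (AlgebraicClosure K)))
  haveI : Surjective t := (FlatMor.flat_surjective_spec_field_hom _).2
  haveI : ConnectedSpace (pullback f (t ≫ y) : Scheme.{u}) := h _ _
  have H' := (IsPullback.of_hasPullback snd t).paste_horiz H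
  haveI : ConnectedSpace (pullback snd t : Scheme.{u}) := H'.isoPullback.hom.homeomorph.connectedSpace_iff.mpr inferInstance
  haveI : Surjective (pullback.fst snd t) := MorphismProperty.pullback_fst _ _ inferInstance
  exact (pullback.fst snd t).surjective.connectedSpace (pullback.fst snd t).continuous

theorem connectedSpace_of_isConnected {X : Scheme.{u}} (Y : FEt.Cat X) [PreGaloisCategory.IsConnected Y] :
    ConnectedSpace Y.left := by
  have hne : Nonempty Y.left := by
    by_contra hY
    exact PreGaloisCategory.IsConnected.notInitial (isInitialCover Y (not_nonempty_iff.1 hY))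
  refine connectedSpace_iff_clopen.2 ⟨hne, fun C hC => ?_⟩
  by_cases h : C = ∅
  · exact .inl h
  obtain ⟨y, hy⟩ := Set.nonempty_iff_ne_empty.2 h
  let W : Y.left.Opens := ⟨C, hC.isOpen⟩
  let i := PiSpDesc.subHom Y W hC.isClosed
  haveI : Mono i :=
    (MorphismProperty.Over.forget _ ⊤ _ ⋙ CategoryTheory.Over.forget _).mono_of_mono_map
      (inferInstanceAs (Mono i.left))
  haveI : IsIso i := PreGaloisCategory.IsConnected.noTrivialComponent _ i fun hi =>
    (isEmpty_of_isInitial hi).false (⟨y, hy⟩ : W)
  haveI : IsIso i.left := isIso_left i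
  have hs : Set.range i.left = Set.univ := Set.range_eq_univ.2 i.left.surjective
  rw [PiSpDesc.range_subHom] at hs
  exact .inr hs

theorem isConnected_of_connectedSpace {X : Scheme.{u}} (Y : FEt.Cat X) [ConnectedSpace Y.left] :
    PreGaloisCategory.IsConnected Y where
  notInitial h := (isEmpty_of_isInitial h).false (Classical.arbitrary Y.left)
  noTrivialComponent W i _ hW := by
    obtain ⟨hi, V, u, hu, hc⟩ := mono_complement i
    haveI := hi
    haveI := hu
    haveI : IsFinite i.left := (prop_left i).1
    have hC : IsClopen (Set.range i.left) := ⟨i.left.isClosedMap.isClosed_range, i.left.isOpenEmbedding.isOpen_range⟩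
    have hne : Nonempty W.left := by
      by_contra hW'
      exact hW (isInitialCover W (not_nonempty_iff.1 hW'))
    have hs := hC.eq_univ (Set.range_nonempty i.left)
    haveI : Surjective i.left := ⟨Set.range_eq_univ.1 hs⟩
    exact isIso_of_isIso_left i ((isIso_iff_isOpenImmersion_and_surjective i.left).2 ⟨inferInstance, inferInstance⟩)

section

variable {X S : Scheme.{u}} (f : X ⟶ S)

theorem geometricallyReduced_etale_comp {Y : Scheme.{u}} (j : Y ⟶ X) [Etale j] [GeometricallyReduced f] :
    GeometricallyReduced (j ≫ f) := by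
  refine ⟨fun K _ y Z fst snd H => ?_⟩
  haveI : IsReduced (pullback f y) := GeometricallyReduced.geometrically_isReduced _ _ _ (.of_hasPullback f y)
  let u : Z ⟶ pullback f y := pullback.lift (fst ≫ j) snd (by rw [Category.assoc]; exact H.w)
  have hu : IsPullback fst u j (pullback.fst f y) :=
    IsPullback.of_bot (by rw [pullback.lift_snd]; exact H) (pullback.lift_fst _ _ _).symm (IsPullback.of_hasPullback f y)
  haveI : Etale u := MorphismProperty.of_isPullback (P := @Etale) hu inferInstance
  exact SpQS.isReduced_of_etale_reduced u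

theorem connectedSpace_normalization [IsProper f] [Flat f] [LocallyOfFinitePresentation f] [GeometricallyReduced f]
    [ConnectedSpace X] : ConnectedSpace f.normalization :=
  haveI : Surjective f.toNormalization := (SteinEt.toNormalization_props f).2.2.2.2
  f.toNormalization.surjective.connectedSpace f.toNormalization.continuous

end

/-- a connected finite étale cover of a strictly henselian scheme is trivial -/
theorem isIso_of_strictlyHenselian {A : Type u} [CommRing A] [HenselianLocalRing A]
    [IsSepClosed (IsLocalRing.ResidueField A)] {T : Scheme.{u}} (q : T ⟶ Spec (CommRingCat.of A))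
    [IsFinite q] [Etale q] [ConnectedSpace T] : IsIso q := by
  haveI : IsAffine T := isAffine_of_isAffineHom q
  obtain ⟨φ, hφ⟩ := Spec.map_surjective (T.isoSpec.inv ≫ q)
  haveI : Etale (Spec.map φ) := by rw [hφ]; infer_instance
  haveI : IsFinite (Spec.map φ) := by rw [hφ]; infer_instance
  letI := φ.hom.toAlgebra
  haveI : Algebra.Etale A Γ(T, ⊤) := RingHom.etale_algebraMap.mp
    ((HasRingHomProperty.Spec_iff (P := @AlgebraicGeometry.Etale)).mp inferInstance : φ.hom.Etale)
  haveI : Module.Finite A Γ(T, ⊤) := ((IsFinite.SpecMap_iff φ).mp inferInstance : φ.hom.Finite)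
  haveI : ConnectedSpace (PrimeSpectrum Γ(T, ⊤)) := T.isoSpec.hom.homeomorph.connectedSpace_iff.mp inferInstance
  haveI : Nontrivial Γ(T, ⊤) := PrimeSpectrum.nonempty_iff_nontrivial.1 inferInstance
  obtain ⟨ι, hι, ε, hε, hloc⟩ := Hensel.exists_pi_local A Γ(T, ⊤)
  haveI : IsLocalRing Γ(T, ⊤) := by
    obtain ⟨i, hi⟩ : ∃ i, ε i = 1 := by
      by_contra hh
      simp only [not_exists] at hh
      have h0 : ∀ i, ε i = 0 := fun i =>
        ((isClopen_iff.1 (PrimeSpectrum.isClopen_iff.2 ⟨ε i, hε.idem i, rfl⟩)).resolve_right fun hu => hh i <|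
          PrimeSpectrum.basicOpen_injOn_isIdempotentElem (hε.idem i) IsIdempotentElem.one
            (TopologicalSpace.Opens.ext (hu.trans (by simp)))) |> fun he =>
          PrimeSpectrum.basicOpen_injOn_isIdempotentElem (hε.idem i) IsIdempotentElem.zero
            (TopologicalSpace.Opens.ext (he.trans (by simp)))
      have := hε.complete
      simp [h0] at this
    haveI := hloc i
    have hb : Function.Bijective (Ideal.Quotient.mk (Ideal.span ({1 - ε i} : Set Γ(T, ⊤)))) := by
      refine ⟨(injective_iff_map_eq_zero _).2 fun x hx => ?_, Ideal.Quotient.mk_surjective⟩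
      rw [Ideal.Quotient.eq_zero_iff_mem, hi, sub_self, Ideal.mem_span_singleton] at hx
      exact zero_dvd_iff.1 hx
    exact (RingEquiv.ofBijective _ hb).symm.isLocalRing
  have hs := Hensel.surjective_of_isLocalRing_unramified A Γ(T, ⊤)
  haveI : Module.Flat A Γ(T, ⊤) := inferInstance
  have hinj : Function.Injective φ.hom := by
    haveI : IsLocalHom (algebraMap A Γ(T, ⊤)) := .of_surjective _ hs
    haveI := Module.FaithfullyFlat.of_flat_of_isLocalHom (A := A) (B := Γ(T, ⊤))
    exact FaithfulSMul.algebraMap_injective A Γ(T, ⊤)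
  haveI : IsIso φ := (ConcreteCategory.isIso_iff_bijective φ).2 ⟨hinj, hs⟩
  rw [show q = T.isoSpec.hom ≫ Spec.map φ by rw [hφ, Iso.hom_inv_id_assoc]]
  infer_instance

end Groth.Agent.FEtEssIm
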