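import Groth.Agent.FEtEssIm.Conn
import Groth.Agent.PiSpDesc.Main

/-!
# Covers with a section over a geometric fibre come from the base
-/

set_option autoImplicit false
set_option linter.style.haveILetI false
set_option backward.isDefEq.respectTransparency false
set_option backward.isDefEq.respectTransparency.types false
set_option maxHeartbeats 800000

universe u

open CategoryTheory CategoryTheory.Limits AlgebraicGeometry

noncomputable section

namespace Groth.Agent.FEtEssIm

open Groth.Agent.FEtGal

variable {X S : Scheme.{u}} (f : X ⟶ S)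

theorem eq_comp_section {Y S' : Scheme.{u}} (q : Y ⟶ X) [IsFinite q] [Etale q] (n : Y ⟶ S') [GeometricallyConnected n]
    (g : S' ⟶ S) [IsFinite g] [Etale g] (w : n ≫ g = q ≫ f)
    {Ω : Type u} [Field Ω] (s : Spec (CommRingCat.of Ω) ⟶ S)
    [ConnectedSpace (pullback f s : Scheme.{u})]
    (σ : pullback f s ⟶ Y) (hσ : σ ≫ q = pullback.fst f s)
    {K : Type u} [Field K] (x : Spec (CommRingCat.of K) ⟶ pullback f s) (y : Spec (CommRingCat.of K) ⟶ Y)
    (hn : y ≫ n = x ≫ σ ≫ n) (hq : y ≫ q = x ≫ pullback.fst f s) : y = x ≫ σ := by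
  let YΩ : Scheme.{u} := pullback (q ≫ f) s
  let qY : YΩ ⟶ pullback f s :=
    pullback.lift (pullback.fst (q ≫ f) s ≫ q) (pullback.snd (q ≫ f) s) (by rw [Category.assoc, pullback.condition])
  have hsqY : IsPullback (pullback.fst (q ≫ f) s) qY q (pullback.fst f s) :=
    IsPullback.of_bot (by rw [pullback.lift_snd]; exact IsPullback.of_hasPullback (q ≫ f) s)
      (pullback.lift_fst _ _ _).symm (IsPullback.of_hasPullback f s)
  haveI : Etale qY := MorphismProperty.of_isPullback (P := @Etale) hsqY inferInstance
  haveI : IsFinite qY := MorphismProperty.of_isPullback (P := @IsFinite) hsqY inferInstance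
  let σ' : pullback f s ⟶ YΩ := pullback.lift σ (pullback.snd f s)
    (by rw [← Category.assoc, hσ, pullback.condition])
  have hσ' : σ' ≫ qY = 𝟙 _ := by
    apply pullback.hom_ext <;> simp [σ', qY, hσ]
  haveI : IsClosedImmersion (σ' ≫ qY) := by rw [hσ']; infer_instance
  haveI : IsClosedImmersion σ' := IsClosedImmersion.of_comp σ' qY
  haveI : Etale (σ' ≫ qY) := by rw [hσ']; infer_instance
  haveI : Etale σ' := Etale.of_comp σ' qY
  haveI : IsOpenImmersion σ' := IsOpenImmersion.of_flat_of_mono σ'
  let m : YΩ ⟶ pullback g s :=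
    pullback.lift (pullback.fst (q ≫ f) s ≫ n) (pullback.snd (q ≫ f) s) (by rw [Category.assoc, w, pullback.condition])
  have hsqm : IsPullback (pullback.fst (q ≫ f) s) m n (pullback.fst g s) :=
    IsPullback.of_bot (by rw [pullback.lift_snd, w]; exact IsPullback.of_hasPullback (q ≫ f) s)
      (pullback.lift_fst _ _ _).symm (IsPullback.of_hasPullback g s)
  haveI : GeometricallyConnected m := MorphismProperty.of_isPullback hsqm inferInstance
  haveI : LocallyQuasiFinite (pullback.snd g s) := inferInstance
  haveI : IsLocallyArtinian (Spec (CommRingCat.of Ω)) := inferInstance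
  haveI : IsLocallyArtinian (pullback g s : Scheme.{u}) := IsLocallyArtinian.of_locallyQuasiFinite (pullback.snd g s)
  haveI : DiscreteTopology (pullback g s : Scheme.{u}) := inferInstance
  let x0 := x (pt₀ K)
  let C := Set.range σ'
  have hC : _root_.IsPreconnected C := isPreconnected_range σ'.continuous
  have hmC : ∀ a ∈ C, m a = m (σ' x0) := fun a ha =>
    (hC.image m m.continuous.continuousOn).subsingleton
      ⟨a, ha, rfl⟩ ⟨σ' x0, ⟨x0, rfl⟩, rfl⟩
  have hfib : _root_.IsPreconnected (m ⁻¹' {m (σ' x0)}) := by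
    rw [← Scheme.Hom.range_fiberι]
    exact isPreconnected_range (m.fiberι _).continuous
  have hCclopen : IsClopen C := ⟨σ'.isClosedEmbedding.isClosed_range, σ'.isOpenEmbedding.isOpen_range⟩
  have hsub : m ⁻¹' {m (σ' x0)} ⊆ C := hfib.subset_isClopen hCclopen ⟨σ' x0, rfl, ⟨x0, rfl⟩⟩
  let y' : Spec (CommRingCat.of K) ⟶ YΩ := pullback.lift y (x ≫ pullback.snd f s)
    (by rw [← Category.assoc, hq, Category.assoc, Category.assoc, pullback.condition])
  have hy'm : y' ≫ m = (x ≫ σ') ≫ m := by
    apply pullback.hom_ext <;> simp [y', σ', m, hn]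
  have hy'q : y' ≫ qY = x := by
    apply pullback.hom_ext <;> simp [y', qY, hq]
  have hr : Set.range y' ⊆ Set.range σ' := by
    rw [range_point]
    refine Set.singleton_subset_iff.2 (hsub ?_)
    show m (y' (pt₀ K)) = m (σ' (x (pt₀ K)))
    rw [← Scheme.Hom.comp_apply, hy'm, Scheme.Hom.comp_apply, Scheme.Hom.comp_apply]
  have e : y' = x ≫ σ' := by
    have h1 := IsOpenImmersion.lift_fac σ' y' hr
    rw [← h1]
    congr 1
    have h2 : IsOpenImmersion.lift σ' y' hr ≫ σ' ≫ qY = y' ≫ qY := by rw [reassoc_of% h1]
    rwa [hσ', Category.comp_id, hy'q] at h2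
  simpa [y', σ'] using congrArg (· ≫ pullback.fst (q ≫ f) s) e

/-- **covers with a section over a geometric fibre come from the base** -/
theorem essImage_of_section [IsProper f] [Flat f] [LocallyOfFinitePresentation f]
    [GeometricallyConnected f] [GeometricallyReduced f]
    (Y : FEt.Cat X) [ConnectedSpace Y.left] {Ω : Type u} [Field Ω]
    (s : Spec (CommRingCat.of Ω) ⟶ S)
    (σ : pullback f s ⟶ Y.left) (hσ : σ ≫ str Y = pullback.fst f s) :
    (FEt.restrict f).essImage Y := by
  haveI : ConnectedSpace (pullback f s : Scheme.{u}) :=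
    GeometricallyConnected.geometrically_connectedSpace s _ _ (IsPullback.of_hasPullback _ _)
  haveI := geometricallyReduced_etale_comp f (str Y)
  let h := str Y ≫ f
  haveI : ConnectedSpace h.normalization := connectedSpace_normalization h
  obtain ⟨h1, h2⟩ := SteinEt.isFinite_and_etale_fromNormalization h
  haveI := h1
  haveI := h2
  let T : FEt.Cat S := MorphismProperty.Over.mk ⊤ h.fromNormalization ⟨h1, h2⟩
  let P : FEt.Cat X := (FEt.restrict f).obj T
  haveI : ConnectedSpace (pullback h.fromNormalization f : Scheme.{u}) := inferInstance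
  haveI : ConnectedSpace P.left := inferInstanceAs (ConnectedSpace (pullback h.fromNormalization f : Scheme.{u}))
  let cl : Y.left ⟶ P.left := pullback.lift h.toNormalization (str Y) h.toNormalization_fromNormalization
  let c : Y ⟶ P := MorphismProperty.Over.homMk cl (pullback.lift_snd _ _ _)
  let Yc : FEt.Cat P.left := MorphismProperty.Over.mk ⊤ cl (prop_left c)
  let one : FEt.Cat P.left := MorphismProperty.Over.mk ⊤ (𝟙 P.left) ⟨inferInstance, inferInstance⟩
  let d : Yc ⟶ one := MorphismProperty.Over.homMk cl (Category.comp_id _)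
  obtain ⟨x₀⟩ : Nonempty (pullback f s : Scheme.{u}) := inferInstance
  obtain ⟨K, _, _, x, -⟩ := PiSpDesc.exists_geom_point x₀
  suffices hb : Function.Bijective (fmap (x ≫ σ ≫ cl) d) by
    haveI := isIso_of_bijective_fmap _ d hb
    haveI : IsIso d.left := isIso_left d
    haveI : IsIso c := isIso_of_isIso_left c (inferInstanceAs (IsIso d.left))
    exact ⟨T, ⟨(asIso c).symm⟩⟩
  refine ⟨fun a b _ => ?_, fun t => ⟨⟨x ≫ σ, Category.assoc _ _ _⟩, Subtype.ext ?_⟩⟩
  · have key : ∀ p : FEt.fiberObj (x ≫ σ ≫ cl) Yc, p.1 = x ≫ σ := fun p => by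
      have hp : p.1 ≫ cl = x ≫ σ ≫ cl := p.2
      refine eq_comp_section f (str Y) h.toNormalization h.fromNormalization h.toNormalization_fromNormalization
        s σ hσ x p.1 ?_ ?_
      · have hfst : cl ≫ pullback.fst h.fromNormalization f = h.toNormalization := pullback.lift_fst _ _ _
        exact (congrArg (p.1 ≫ ·) hfst.symm).trans ((Category.assoc _ _ _).symm.trans
          ((congrArg (fun z => z ≫ pullback.fst h.fromNormalization f) hp).trans ((Category.assoc _ _ _).trans
            (congrArg (x ≫ ·) ((Category.assoc _ _ _).trans (congrArg (σ ≫ ·) hfst))))))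
      · have hsnd : cl ≫ pullback.snd h.fromNormalization f = str Y := pullback.lift_snd _ _ _
        exact (congrArg (p.1 ≫ ·) hsnd.symm).trans ((Category.assoc _ _ _).symm.trans
          ((congrArg (fun z => z ≫ pullback.snd h.fromNormalization f) hp).trans ((Category.assoc _ _ _).trans
            (congrArg (x ≫ ·) ((Category.assoc _ _ _).trans ((congrArg (σ ≫ ·) hsnd).trans hσ))))))
    exact Subtype.ext ((key a).trans (key b).symm)
  · have := t.2
    show (x ≫ σ) ≫ cl = t.1
    rw [Category.assoc]
    exact (this.symm.trans (Category.comp_id _))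

end Groth.Agent.FEtEssIm
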